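import Groth.Agent.UnipMult.Basic

/-!
# A unipotent group has no nontrivial characters over any field
-/

set_option autoImplicit false
set_option backward.isDefEq.respectTransparency false

universe u
open TensorProduct Coalgebra
noncomputable section

namespace Groth.Agent.UnipMult

variable {k : Type u} [Field k] {C : Type u} [CommRing C] [HopfAlgebra k C] {K : Type u} [Field K] [Algebra k K]

/-- `w ⊗ h` in `K ⊗ (V ⊗ C)`. -/
def wh (V : Type u) [AddCommGroup V] [Module k V] (w : K ⊗[k] V) (h : K ⊗[k] C) : K ⊗[k] (V ⊗[k] C) :=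
  (TensorProduct.AlgebraTensorModule.distribBaseChange k K V C).symm (w ⊗ₜ[K] h)

theorem wh_natural {V W : Type u} [AddCommGroup V] [Module k V] [AddCommGroup W] [Module k W] (f : V →ₗ[k] W)
    (w : K ⊗[k] V) (h : K ⊗[k] C) : (f.rTensor C).baseChange K (wh V w h) = wh W (f.baseChange K w) h := by
  induction w using TensorProduct.induction_on with
  | zero => simp [wh]
  | add a b ha hb => simp only [wh, map_add, TensorProduct.add_tmul] at ha hb ⊢; rw [ha, hb]
  | tmul c v =>
    induction h using TensorProduct.induction_on with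
    | zero => simp [wh]
    | tmul d x => simp [wh]
    | add a b ha hb => simp only [wh, map_add, TensorProduct.tmul_add] at ha hb ⊢; rw [ha, hb]

/-- A unipotent group has no eigenvectors of nontrivial weight. -/
theorem eq_zero_of_eigen (hU : HopfRep.IsUnipotent k C) (h : K ⊗[k] C) (hne : h ≠ 1)
    (V : Type u) [AddCommGroup V] [Module k V] [HopfRep.Comod k C V] [Module.Finite k V] (w : K ⊗[k] V)
    (hw : (HopfRep.Comod.coact (k := k) (A := C) (V := V)).baseChange K w = wh V w h) : w = 0 := by
  suffices H : ∀ (n : ℕ) (V : Type u) [AddCommGroup V] [Module k V] [HopfRep.Comod k C V] [Module.Finite k V],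
      Module.finrank k V ≤ n → ∀ w : K ⊗[k] V,
      (HopfRep.Comod.coact (k := k) (A := C) (V := V)).baseChange K w = wh V w h → w = 0 from H _ V le_rfl w hw
  clear hw w
  intro n
  induction n with
  | zero =>
    intro V _ _ _ _ hn w _
    haveI : Subsingleton V := Module.finrank_zero_iff.1 (Nat.le_zero.1 hn)
    exact Subsingleton.elim _ _
  | succ n ih =>
    intro V _ _ c _ hn w hw
    rcases subsingleton_or_nontrivial V with _ | hnt
    · exact Subsingleton.elim _ _
    obtain ⟨v0, hv0, hne0⟩ := Submodule.exists_mem_ne_zero_of_ne_bot (hU V inferInstance hnt)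
    have hfix : c.coact v0 = v0 ⊗ₜ[k] (1 : C) := hv0
    let W := k ∙ v0
    have hW : @HopfRep.IsSubcomod k C _ _ _ _ V _ _ c W := by
      intro x hx
      obtain ⟨a, rfl⟩ := Submodule.mem_span_singleton.1 hx
      exact ⟨(⟨a • v0, hx⟩ : W) ⊗ₜ 1, by rw [map_smul, hfix]; simp [TensorProduct.smul_tmul']⟩
    let cq := ComodSub.Comod.quot c W hW
    have hlt : Module.finrank k (V ⧸ W) ≤ n := by
      have h1 := Submodule.finrank_quotient_add_finrank W
      have h2 : Module.finrank k W = 1 := finrank_span_singleton hne0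
      omega
    have hq : cq.coact ∘ₗ W.mkQ = W.mkQ.rTensor C ∘ₗ c.coact := LinearMap.ext fun x => rfl
    have h0 : W.mkQ.baseChange K w = 0 := @ih (V ⧸ W) _ _ cq _ hlt _ (by
      rw [← LinearMap.comp_apply, ← LinearMap.baseChange_comp, hq, LinearMap.baseChange_comp, LinearMap.comp_apply,
        hw, wh_natural])
    obtain ⟨z, hz⟩ := (lTensor_exact K (LinearMap.exact_subtype_mkQ W) W.mkQ_surjective w).1 h0
    obtain ⟨a, ha⟩ : ∃ a : K, w = a ⊗ₜ[k] v0 := by
      rw [← hz]
      clear hz
      induction z using TensorProduct.induction_on with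
      | zero => exact ⟨0, by simp⟩
      | tmul b x =>
        obtain ⟨t, ht⟩ := Submodule.mem_span_singleton.1 x.2
        exact ⟨t • b, by rw [LinearMap.lTensor_tmul, W.subtype_apply, ← ht, TensorProduct.smul_tmul]⟩
      | add x y hx hy =>
        obtain ⟨p, hp⟩ := hx
        obtain ⟨q, hq⟩ := hy
        exact ⟨p + q, by rw [map_add, hp, hq, TensorProduct.add_tmul]⟩
    subst ha
    rw [LinearMap.baseChange_tmul, hfix] at hw
    obtain ⟨θ, hθ⟩ := Module.Projective.exists_dual_ne_zero k hne0
    let P : V ⊗[k] C →ₗ[k] C := (TensorProduct.lid k C).toLinearMap ∘ₗ θ.rTensor C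
    have e : ∀ y : K ⊗[k] C, P.baseChange K (wh V (a ⊗ₜ[k] v0) y) = (θ v0) • a • y := by
      intro y
      induction y using TensorProduct.induction_on with
      | zero => simp [wh]
      | tmul d x =>
        simp [wh, P, TensorProduct.smul_tmul', TensorProduct.tmul_smul]
      | add p q hp hq => simp only [wh, map_add, TensorProduct.tmul_add, smul_add] at hp hq ⊢; rw [hp, hq]
    have h1 := congrArg (P.baseChange K) hw
    rw [e h, LinearMap.baseChange_tmul] at h1
    simp only [P, LinearMap.comp_apply, LinearMap.rTensor_tmul, LinearEquiv.coe_coe, TensorProduct.lid_tmul] at h1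
    rw [TensorProduct.tmul_smul, show a ⊗ₜ[k] (1 : C) = a • (1 : K ⊗[k] C) by
      simp [Algebra.TensorProduct.one_def, TensorProduct.smul_tmul']] at h1
    have h2 : a • (1 : K ⊗[k] C) = a • h := smul_right_injective (K ⊗[k] C) hθ h1
    by_contra h3
    have ha0 : a ≠ 0 := fun h4 => h3 (by rw [h4, TensorProduct.zero_tmul])
    exact hne (smul_right_injective _ ha0 h2).symm

/-- A group-like element of a base change of a unipotent Hopf algebra is `1`. -/
theorem groupLike_eq_one (hU : HopfRep.IsUnipotent k C) (h : K ⊗[k] C)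
    (hh : comul (R := K) h = h ⊗ₜ[K] h) (hh0 : h ≠ 0) : h = 1 := by
  classical
  by_contra hne
  obtain ⟨s, hs⟩ := TensorProduct.exists_finset h
  obtain ⟨S, hS, hfin⟩ := Groth.Agent.Comod.exists_finite_subcomod_finset (K := k) (C := C) (V := C) (s.image Prod.snd)
  let W := Groth.Agent.Comod.ofDSub S
  let cW := ComodSub.Comod.restr (inferInstance : HopfRep.Comod k C C) W (Groth.Agent.Comod.isSubcomod_ofDSub S)
  haveI : Module.Finite k W := hfin
  obtain ⟨w, hw⟩ : ∃ w : K ⊗[k] W, W.subtype.baseChange K w = h :=
    ⟨∑ i ∈ s.attach, i.1.1 ⊗ₜ[k] (⟨i.1.2, hS _ (Finset.mem_image_of_mem _ i.2)⟩ : W), by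
      rw [map_sum, hs, ← Finset.sum_attach s]
      rfl⟩
  have hinj : Function.Injective ((W.subtype.rTensor C).baseChange K) :=
    Module.Flat.lTensor_preserves_injective_linearMap _
      (Module.Flat.rTensor_preserves_injective_linearMap _ W.injective_subtype)
  have hkey : ∀ y : K ⊗[k] C, (comul (R := k) (A := C)).baseChange K y =
      (TensorProduct.AlgebraTensorModule.distribBaseChange k K C C).symm (comul (R := K) y) := by
    intro y
    induction y using TensorProduct.induction_on with
    | zero => simp
    | add p q hp hq => simp only [map_add, hp, hq]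
    | tmul c a =>
      rw [show c ⊗ₜ[k] a = c • ((1 : K) ⊗ₜ[k] a) by simp [TensorProduct.smul_tmul'], map_smul, map_smul, map_smul,
        LRBC.comul_one_tmul, LinearMap.baseChange_tmul]
      congr 1
      rw [LinearEquiv.eq_symm_apply]
      generalize comul (R := k) a = t
      induction t using TensorProduct.induction_on with
      | zero => simp
      | tmul x y => simp [LRBC.dd_tmul]
      | add x y hx hy => simp only [TensorProduct.tmul_add, map_add, hx, hy]
  have hsub : W.subtype.rTensor C ∘ₗ cW.coact = comul (R := k) (A := C) ∘ₗ W.subtype :=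
    LinearMap.ext fun x =>
      ComodSub.restr_coact_coe (inferInstance : HopfRep.Comod k C C) W (Groth.Agent.Comod.isSubcomod_ofDSub S) x
  have h0 := @eq_zero_of_eigen k _ C _ _ K _ _ hU h hne W _ _ cW hfin w (hinj (by
    rw [wh_natural, hw, ← LinearMap.comp_apply, ← LinearMap.baseChange_comp, hsub, LinearMap.baseChange_comp,
      LinearMap.comp_apply, hw, hkey, hh]
    rfl))
  exact hh0 (by rw [← hw, h0, map_zero])

end Groth.Agent.UnipMult
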