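import Groth.Agent.LRBC.Basic
import Groth.Agent.GeomRedPull.Basic
import Groth.Prelude.Def_ComodSub
import Groth.Prelude.Def_SGA3t2b
import Mathlib.RingTheory.Coalgebra.GroupLike
import Mathlib.RingTheory.Bialgebra.GroupLike
import Mathlib.RingTheory.Flat.Basic

/-!
# Unipotent versus multiplicative type: primitives and group-like elements
-/

set_option autoImplicit false
set_option backward.isDefEq.respectTransparency false

universe u v w
open TensorProduct Coalgebra
noncomputable section

namespace Groth.Agent.UnipMult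

variable {k : Type u} [Field k] {U : Type v} [CommRing U] [HopfAlgebra k U]

/-- A fixed line gives the recursion: a linear map out of a unipotent Hopf algebra under which coefficient
primitives vanish trivialises every finite comodule with coefficients in `R`. -/
theorem trivial_of_unipotent (hU : ∀ (V : Type w) [AddCommGroup V] [Module k V] [HopfRep.Comod k U V],
      Module.Finite k V → Nontrivial V → HopfRep.fixedPts k U V ≠ ⊥)
    {B : Type*} [AddCommGroup B] [Module k B] {T : Type*} [AddCommGroup T] [Module k T]
    (one : B) (φ : U →ₗ[k] B) (hφ1 : φ 1 = one) (μ : B →ₗ[k] B →ₗ[k] T) (D : B →ₗ[k] T)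
    (hD : ∀ u, D (φ u) = TensorProduct.lift (μ.compl₁₂ φ φ) (comul (R := k) u))
    (hD1 : D one = μ one one) (R : Submodule k U)
    (hprim : ∀ u ∈ R, ∀ c : k, D (φ u - c • one) = μ (φ u - c • one) one + μ one (φ u - c • one) →
      φ u = c • one)
    (V : Type w) [AddCommGroup V] [Module k V] [HopfRep.Comod k U V] [Module.Finite k V]
    (hR : ∀ v : V, HopfRep.Comod.coact (k := k) (A := U) v ∈ LinearMap.range (R.subtype.lTensor V)) :
    ∀ v : V, φ.lTensor V (HopfRep.Comod.coact (k := k) (A := U) v) = v ⊗ₜ one := by
  suffices H : ∀ (n : ℕ) (V : Type w) [AddCommGroup V] [Module k V] [HopfRep.Comod k U V] [Module.Finite k V],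
      Module.finrank k V ≤ n →
      (∀ v : V, HopfRep.Comod.coact (k := k) (A := U) v ∈ LinearMap.range (R.subtype.lTensor V)) →
      ∀ v : V, φ.lTensor V (HopfRep.Comod.coact (k := k) (A := U) v) = v ⊗ₜ one from
    H _ V le_rfl hR
  intro n
  induction n with
  | zero =>
    intro V _ _ _ _ hn _ v
    haveI : Subsingleton V := Module.finrank_zero_iff.1 (Nat.le_zero.1 hn)
    rw [Subsingleton.elim v 0, map_zero, map_zero, TensorProduct.zero_tmul]
  | succ n ih =>
    intro V _ _ c _ hn hR v
    rcases subsingleton_or_nontrivial V with _ | hnt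
    · rw [Subsingleton.elim v 0, map_zero, map_zero, TensorProduct.zero_tmul]
    obtain ⟨v0, hv0, hne⟩ := Submodule.exists_mem_ne_zero_of_ne_bot (hU V inferInstance hnt)
    have hfix : c.coact v0 = v0 ⊗ₜ[k] (1 : U) := hv0
    let W := k ∙ v0
    have hW : @HopfRep.IsSubcomod k U _ _ _ _ V _ _ c W := by
      intro w hw
      obtain ⟨a, rfl⟩ := Submodule.mem_span_singleton.1 hw
      exact ⟨(⟨a • v0, hw⟩ : W) ⊗ₜ 1, by rw [map_smul, hfix]; simp [TensorProduct.smul_tmul']⟩
    letI cq := ComodSub.Comod.quot c W hW
    have hq : ∀ w : V, cq.coact (W.mkQ w) = W.mkQ.rTensor U (c.coact w) := fun w => rfl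
    have hlt : Module.finrank k (V ⧸ W) ≤ n := by
      have h1 := Submodule.finrank_quotient_add_finrank W
      have h2 : Module.finrank k W = 1 := finrank_span_singleton hne
      omega
    have hRq : ∀ w : V ⧸ W, cq.coact w ∈ LinearMap.range (R.subtype.lTensor (V ⧸ W)) := by
      intro w
      obtain ⟨w, rfl⟩ := W.mkQ_surjective w
      obtain ⟨z, hz⟩ := hR w
      refine ⟨W.mkQ.rTensor R z, ?_⟩
      rw [hq, ← hz, ← LinearMap.comp_apply, ← LinearMap.comp_apply, LinearMap.lTensor_comp_rTensor,
        LinearMap.rTensor_comp_lTensor]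
    have hker : ∀ w : V, ∃ f : B, φ.lTensor V (c.coact w) = w ⊗ₜ one + v0 ⊗ₜ f := by
      intro w
      have h1 := @ih (V ⧸ W) _ _ cq _ hlt hRq (W.mkQ w)
      rw [hq, ← LinearMap.comp_apply, LinearMap.lTensor_comp_rTensor, ← LinearMap.rTensor_comp_lTensor,
        LinearMap.comp_apply] at h1
      have h2 : W.mkQ.rTensor B (φ.lTensor V (c.coact w) - w ⊗ₜ one) = 0 := by
        rw [map_sub, h1, LinearMap.rTensor_tmul, sub_self]
      obtain ⟨z, hz⟩ := (rTensor_exact B (LinearMap.exact_subtype_mkQ W) W.mkQ_surjective _).1 h2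
      suffices ∀ z : W ⊗[k] B, ∃ f, W.subtype.rTensor B z = v0 ⊗ₜ f by
        obtain ⟨f, hf⟩ := this z
        exact ⟨f, by rw [← hf, hz]; abel⟩
      intro z
      induction z using TensorProduct.induction_on with
      | zero => exact ⟨0, by simp⟩
      | tmul x b =>
        obtain ⟨a, ha⟩ := Submodule.mem_span_singleton.1 x.2
        exact ⟨a • b, by rw [LinearMap.rTensor_tmul, W.subtype_apply, ← ha, TensorProduct.smul_tmul]⟩
      | add x y hx hy =>
        obtain ⟨f, hf⟩ := hx
        obtain ⟨g, hg⟩ := hy
        exact ⟨f + g, by rw [map_add, hf, hg, TensorProduct.tmul_add]⟩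
    obtain ⟨f, hf⟩ := hker v
    suffices f = 0 by rw [hf, this, TensorProduct.tmul_zero, add_zero]
    obtain ⟨θ, hθ⟩ := Module.Projective.exists_dual_ne_zero k hne
    let θ' : V →ₗ[k] k := (θ v0)⁻¹ • θ
    have hθ' : θ' v0 = 1 := by simp [θ', hθ]
    let p : V ⊗[k] U →ₗ[k] U := (TensorProduct.lid k U).toLinearMap ∘ₗ θ'.rTensor U
    let P : V ⊗[k] B →ₗ[k] B := (TensorProduct.lid k B).toLinearMap ∘ₗ θ'.rTensor B
    have hPp : ∀ z, φ (p z) = P (φ.lTensor V z) := by
      intro z
      induction z using TensorProduct.induction_on with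
      | zero => simp
      | tmul a b => simp [p, P]
      | add a b ha hb => simp only [map_add, ha, hb]
    let u := p (c.coact v)
    have hu : u ∈ R := by
      obtain ⟨z, hz⟩ := hR v
      show p (c.coact v) ∈ R
      rw [← hz]
      clear hz
      induction z using TensorProduct.induction_on with
      | zero => simp
      | tmul a b =>
        simp only [p, LinearMap.comp_apply, LinearMap.lTensor_tmul, LinearMap.rTensor_tmul, LinearEquiv.coe_coe,
          TensorProduct.lid_tmul, Submodule.subtype_apply]
        exact R.smul_mem _ b.2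
      | add a b ha hb => simp only [map_add]; exact add_mem ha hb
    have hφu : φ u = θ' v • one + f := by
      rw [hPp, hf]
      simp [P, hθ']
    let L : V ⊗[k] B →ₗ[k] T :=
      TensorProduct.lift (μ.compl₁₂ (P ∘ₗ φ.lTensor V ∘ₗ c.coact) LinearMap.id)
    have hLv0 : P (φ.lTensor V (c.coact v0)) = one := by
      rw [hfix]; simp [P, hθ', hφ1]
    have key : D (φ u) = L (φ.lTensor V (c.coact v)) := by
      rw [hD]
      have hco : comul (R := k) u = TensorProduct.map p LinearMap.id (c.coact.rTensor U (c.coact v)) := by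
        have h := LinearMap.congr_fun c.coassoc v
        simp only [LinearMap.comp_apply, LinearEquiv.coe_coe] at h
        let Q : V ⊗[k] (U ⊗[k] U) →ₗ[k] U ⊗[k] U := (TensorProduct.lid k _).toLinearMap ∘ₗ θ'.rTensor _
        have e1 : ∀ z : (V ⊗[k] U) ⊗[k] U, Q (TensorProduct.assoc k V U U z) = TensorProduct.map p LinearMap.id z := by
          intro z
          induction z using TensorProduct.induction_on with
          | zero => simp
          | tmul a b =>
            induction a using TensorProduct.induction_on with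
            | zero => simp
            | tmul x y => simp [Q, p, TensorProduct.smul_tmul']
            | add x y hx hy => simp only [TensorProduct.add_tmul, map_add, hx, hy]
          | add a b ha hb => simp only [map_add, ha, hb]
        have e2 : ∀ z : V ⊗[k] U, Q ((comul (R := k) (A := U)).lTensor V z) = comul (R := k) (p z) := by
          intro z
          induction z using TensorProduct.induction_on with
          | zero => simp
          | tmul a b => simp [Q, p]
          | add a b ha hb => simp only [map_add, ha, hb]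
        rw [← e1, h, e2]
      rw [hco]
      generalize c.coact v = z
      induction z using TensorProduct.induction_on with
      | zero => simp
      | tmul a b =>
        simp only [LinearMap.rTensor_tmul, LinearMap.lTensor_tmul, TensorProduct.map_tmul, LinearMap.id_apply,
          TensorProduct.lift.tmul, LinearMap.compl₁₂_apply, L, LinearMap.comp_apply, hPp]
      | add a b ha hb => simp only [map_add, ha, hb]
    have hPv : P (φ.lTensor V (c.coact v)) = θ' v • one + f := by rw [← hPp]; exact hφu
    have h := hprim u hu (θ' v) (by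
      have hfu : φ u - θ' v • one = f := by rw [hφu]; abel
      rw [hfu, show D f = D (φ u) - θ' v • D one by rw [← map_smul, ← map_sub, hfu], key, hf, hD1]
      simp only [map_add, L, TensorProduct.lift.tmul, LinearMap.compl₁₂_apply, LinearMap.comp_apply,
        LinearMap.id_apply, hPv, hLv0, LinearMap.add_apply, map_smul, LinearMap.smul_apply]
      abel)
    rw [hφu] at h
    exact add_left_cancel (h.trans (add_zero _).symm)

/-- Specialisation to the regular comodules: a map as above is the counit. -/
theorem eq_counit (hU : HopfRep.IsUnipotent k U)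
    {B : Type*} [AddCommGroup B] [Module k B] {T : Type*} [AddCommGroup T] [Module k T]
    (one : B) (φ : U →ₗ[k] B) (hφ1 : φ 1 = one) (μ : B →ₗ[k] B →ₗ[k] T) (D : B →ₗ[k] T)
    (hD : ∀ u, D (φ u) = TensorProduct.lift (μ.compl₁₂ φ φ) (comul (R := k) u))
    (hD1 : D one = μ one one)
    (hprim : ∀ (u : U) (c : k), D (φ u - c • one) = μ (φ u - c • one) one + μ one (φ u - c • one) →
      φ u = c • one)
    (a : U) : φ a = counit (R := k) a • one := by
  classical
  obtain ⟨S, hS, hfin⟩ := Groth.Agent.Comod.exists_finite_subcomod_finset (K := k) (C := U) (V := U) {a}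
  let W := Groth.Agent.Comod.ofDSub S
  letI := ComodSub.Comod.restr (inferInstance : HopfRep.Comod k U U) W (Groth.Agent.Comod.isSubcomod_ofDSub S)
  haveI : Module.Finite k W := hfin
  have h := trivial_of_unipotent hU one φ hφ1 μ D hD hD1 ⊤ (fun u _ => hprim u) W
    (fun w => ⟨(Submodule.topEquiv.symm.toLinearMap).lTensor W (HopfRep.Comod.coact w), by
      rw [← LinearMap.comp_apply, ← LinearMap.lTensor_comp,
        show (⊤ : Submodule k U).subtype ∘ₗ Submodule.topEquiv.symm.toLinearMap = LinearMap.id from rfl,
        LinearMap.lTensor_id, LinearMap.id_apply]⟩)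
    ⟨a, hS a (Finset.mem_singleton_self a)⟩
  have h2 := congrArg (fun z => (TensorProduct.lid k B) (((counit (R := k) (A := U)) ∘ₗ W.subtype).rTensor B z)) h
  simp only [LinearMap.rTensor_tmul, LinearMap.comp_apply, Submodule.subtype_apply, TensorProduct.lid_tmul] at h2
  rw [← h2]
  have hco : W.subtype.rTensor U (HopfRep.Comod.coact (k := k) (A := U) (⟨a, hS a (Finset.mem_singleton_self a)⟩ : W)) =
      comul (R := k) a :=
    ComodSub.restr_coact_coe (inferInstance : HopfRep.Comod k U U) W (Groth.Agent.Comod.isSubcomod_ofDSub S) _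
  have h3 : ∀ z : W ⊗[k] U, (TensorProduct.lid k B)
      (((counit (R := k) (A := U)) ∘ₗ W.subtype).rTensor B (φ.lTensor W z)) =
      φ ((TensorProduct.lid k U) ((counit (R := k) (A := U)).rTensor U (W.subtype.rTensor U z))) := by
    intro z
    induction z using TensorProduct.induction_on with
    | zero => simp
    | tmul x y => simp
    | add x y hx hy => simp only [map_add, hx, hy]
  rw [h3, hco, Coalgebra.rTensor_counit_comul, TensorProduct.lid_tmul, one_smul]

section coord

variable {B : Type u} [CommRing B] [HopfAlgebra k B] {K : Type u} [Field K] [Algebra k K]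

open scoped Classical in
/-- Coordinates along the group-like elements of the base change. -/
theorem exists_coord : ∃ θ : {g : K ⊗[k] B // IsGroupLikeElem K g} → B →ₗ[k] K,
    ∀ a : B, (1 : K) ⊗ₜ[k] a ∈ Submodule.span K {g : K ⊗[k] B | IsGroupLikeElem K g} →
      (∀ g h, TensorProduct.lift ((LinearMap.mul k K).compl₁₂ (θ g) (θ h)) (comul (R := k) a) =
          if g = h then θ g a else 0) ∧
        ((∀ g, θ g a = 0) → a = 0) := by
  classical
  have hli : LinearIndepOn K id {g : K ⊗[k] B | IsGroupLikeElem K g} := linearIndepOn_isGroupLikeElem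
  let b := Module.Basis.extend hli
  have hsub := hli.subset_extend (Set.subset_univ _)
  let inc : {g : K ⊗[k] B // IsGroupLikeElem K g} → hli.extend (Set.subset_univ _) := fun g => ⟨g.1, hsub g.2⟩
  have hinc : Function.Injective inc := fun g h e => Subtype.ext (congrArg Subtype.val e :)
  have hb : ∀ g, b (inc g) = g.1 := fun g => Module.Basis.extend_apply_self hli _
  refine ⟨fun g => ((b.coord (inc g)).restrictScalars k) ∘ₗ TensorProduct.mk k K B 1, fun a ha => ⟨fun g h => ?_, ?_⟩⟩
  · have e : ∀ t : B ⊗[k] B, TensorProduct.lift ((LinearMap.mul k K).compl₁₂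
        (((b.coord (inc g)).restrictScalars k) ∘ₗ TensorProduct.mk k K B 1)
        (((b.coord (inc h)).restrictScalars k) ∘ₗ TensorProduct.mk k K B 1)) t =
        TensorProduct.lift ((LinearMap.mul K K).compl₁₂ (b.coord (inc g)) (b.coord (inc h)))
          (LRBC.dd (K := K) t) := by
      intro t
      induction t using TensorProduct.induction_on with
      | zero => simp
      | tmul x y => simp [LRBC.dd_tmul]
      | add x y hx hy => simp only [map_add, hx, hy]
    rw [e, ← LRBC.comul_one_tmul]
    show _ = if g = h then b.coord (inc g) ((1 : K) ⊗ₜ a) else 0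
    generalize (1 : K) ⊗ₜ[k] a = y at ha
    induction ha using Submodule.span_induction with
    | mem y hy =>
      rw [IsGroupLikeElem.comul_eq_tmul_self hy, TensorProduct.lift.tmul, LinearMap.compl₁₂_apply,
        LinearMap.mul_apply', show y = b (inc ⟨y, hy⟩) from (hb ⟨y, hy⟩).symm, Module.Basis.coord_apply,
        Module.Basis.coord_apply, Module.Basis.repr_self, Finsupp.single_apply, Finsupp.single_apply]
      by_cases h1 : g = h
      · subst h1
        simp only [if_true]
        split_ifs <;> simp
      · rw [if_neg h1]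
        split_ifs with h2 h3 <;> try simp
        exact absurd (hinc (h2.symm.trans h3)) h1
    | zero => simp
    | add x y _ _ hx hy => simp only [map_add, hx, hy]; split_ifs <;> simp
    | smul r x _ hx => simp only [map_smul, hx]; split_ifs <;> simp
  · intro h0
    have hz : (1 : K) ⊗ₜ[k] a = 0 := by
      rw [b.ext_elem_iff]
      intro i
      rw [map_zero, Finsupp.zero_apply]
      by_cases hi : ∃ g, inc g = i
      · obtain ⟨g, rfl⟩ := hi
        exact h0 g
      · suffices ∀ y ∈ Submodule.span K {g : K ⊗[k] B | IsGroupLikeElem K g}, b.repr y i = 0 from this _ ha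
        intro y hy
        induction hy using Submodule.span_induction with
        | mem y hy =>
          rw [show y = b (inc ⟨y, hy⟩) from (hb ⟨y, hy⟩).symm, Module.Basis.repr_self, Finsupp.single_apply,
            if_neg fun e => hi ⟨_, e⟩]
        | zero => simp
        | add x y _ _ hx hy => simp [hx, hy]
        | smul r x _ hx => simp [hx]
    have := TensorProduct.mk k K B 1
    by_contra hne
    obtain ⟨χ, hχ⟩ := Module.Projective.exists_dual_ne_zero k hne
    have h1 := congrArg (TensorProduct.rid k K ∘ χ.lTensor K) hz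
    simp [Algebra.smul_def, hχ] at h1

/-- Primitive elements in the span of the group-likes of a base change vanish. -/
theorem prim_eq_zero {f : B}
    (hs : (1 : K) ⊗ₜ[k] f ∈ Submodule.span K {g : K ⊗[k] B | IsGroupLikeElem K g})
    (hf : comul (R := k) f = f ⊗ₜ[k] (1 : B) + (1 : B) ⊗ₜ[k] f) : f = 0 := by
  classical
  obtain ⟨θ, hθ⟩ := exists_coord (k := k) (B := B) (K := K)
  have h1 : (1 : K) ⊗ₜ[k] (1 : B) ∈ Submodule.span K {g : K ⊗[k] B | IsGroupLikeElem K g} :=
    Submodule.subset_span (IsGroupLikeElem.one : IsGroupLikeElem K (1 : K ⊗[k] B))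
  refine (hθ f hs).2 fun g => ?_
  have e := (hθ f hs).1 g g
  rw [hf, if_pos rfl] at e
  have e1 := (hθ 1 h1).1 g g
  rw [Bialgebra.comul_one, Algebra.TensorProduct.one_def, if_pos rfl] at e1
  simp only [map_add, TensorProduct.lift.tmul, LinearMap.compl₁₂_apply, LinearMap.mul_apply'] at e e1
  rcases mul_eq_zero.1 (show θ g 1 * (θ g 1 - 1) = 0 by rw [mul_sub, e1, mul_one, sub_self]) with h | h
  · rw [h, mul_zero, zero_mul, add_zero] at e
    exact e.symm
  · rw [sub_eq_zero.1 h, mul_one, one_mul, add_eq_left] at e
    exact e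

end coord

end Groth.Agent.UnipMult

namespace Groth.Agent.UnipMult

section family

variable {k : Type u} [Field k] {B : Type u} [CommRing B] [HopfAlgebra k B] {K : Type u} [Field K] [Algebra k K]
  {R : Type u} [CommRing R] [Algebra k R]

/-- `x ⊗ y ↦ (1 ⊗ x) ⊗ (1 ⊗ y)` over any `k`-algebra. -/
def ddR : B ⊗[k] B →+* (R ⊗[k] B) ⊗[R] (R ⊗[k] B) :=
  Algebra.TensorProduct.mapRingHom (algebraMap k R)
    (RingHomClass.toRingHom (Algebra.TensorProduct.includeRight : B →ₐ[k] R ⊗[k] B))
    (RingHomClass.toRingHom (Algebra.TensorProduct.includeRight : B →ₐ[k] R ⊗[k] B))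
    (by simp [← IsScalarTower.algebraMap_eq]) (by simp [← IsScalarTower.algebraMap_eq])

theorem comul_one_tmulR (a : B) :
    comul (R := R) ((1 : R) ⊗ₜ[k] a) = ddR (R := R) (comul (R := k) a) :=
  RingHom.congr_fun (Bialgebra.comul_includeRight (R := k) (A := R) (B := B)) a

/-- Families of primitive elements in a multiplicative type bialgebra vanish. -/
theorem prim_family_eq_zero
    (htop : Submodule.span K {g : K ⊗[k] B | IsGroupLikeElem K g} = ⊤) {f : R ⊗[k] B}
    (hf : comul (R := R) f = f ⊗ₜ[R] (1 : R ⊗[k] B) + (1 : R ⊗[k] B) ⊗ₜ[R] f) : f = 0 := by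
  classical
  obtain ⟨θ, hθ⟩ := exists_coord (k := k) (B := B) (K := K)
  let Θ : {g : K ⊗[k] B // IsGroupLikeElem K g} → (R ⊗[k] B) →ₗ[R] R ⊗[k] K := fun g => (θ g).baseChange R
  have key : ∀ (x : R ⊗[k] B) g h,
      TensorProduct.lift ((LinearMap.mul R (R ⊗[k] K)).compl₁₂ (Θ g) (Θ h)) (comul (R := R) x) =
        if g = h then Θ g x else 0 := by
    intro x g h
    induction x using TensorProduct.induction_on with
    | zero => simp
    | add x y hx hy => simp only [map_add, hx, hy]; split_ifs <;> simp
    | tmul r a =>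
      rw [show r ⊗ₜ[k] a = r • ((1 : R) ⊗ₜ[k] a) by simp [TensorProduct.smul_tmul'], map_smul, map_smul,
        comul_one_tmulR]
      have e : ∀ t : B ⊗[k] B,
          TensorProduct.lift ((LinearMap.mul R (R ⊗[k] K)).compl₁₂ (Θ g) (Θ h)) (ddR (R := R) t) =
            (1 : R) ⊗ₜ[k] TensorProduct.lift ((LinearMap.mul k K).compl₁₂ (θ g) (θ h)) t := by
        intro t
        induction t using TensorProduct.induction_on with
        | zero => simp
        | tmul x y => simp [ddR, Θ]
        | add x y hx hy => simp only [map_add, hx, hy, TensorProduct.tmul_add]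
      rw [e, (hθ a (htop ▸ Submodule.mem_top)).1 g h]
      split_ifs <;> simp [Θ, TensorProduct.smul_tmul']
  have hall : ∀ g, Θ g f = 0 := by
    intro g
    have e := key f g g
    rw [hf, if_pos rfl] at e
    have e1 := key 1 g g
    rw [Bialgebra.comul_one, Algebra.TensorProduct.one_def, if_pos rfl] at e1
    rw [← Algebra.TensorProduct.one_def] at e1
    simp only [map_add, TensorProduct.lift.tmul, LinearMap.compl₁₂_apply, LinearMap.mul_apply'] at e
    rw [show (1 : (R ⊗[k] B) ⊗[R] (R ⊗[k] B)) = (1 : R ⊗[k] B) ⊗ₜ[R] (1 : R ⊗[k] B) from rfl,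
      TensorProduct.lift.tmul, LinearMap.compl₁₂_apply, LinearMap.mul_apply'] at e1
    have hc : Θ g 1 = (1 : R) ⊗ₜ[k] θ g 1 := by simp [Θ, Algebra.TensorProduct.one_def]
    have h1 : θ g 1 * θ g 1 = θ g 1 := by
      have := (hθ 1 (htop ▸ Submodule.mem_top)).1 g g
      rw [Bialgebra.comul_one, Algebra.TensorProduct.one_def, if_pos rfl] at this
      simpa using this
    rcases mul_eq_zero.1 (show θ g 1 * (θ g 1 - 1) = 0 by rw [mul_sub, h1, mul_one, sub_self]) with h | h
    · rw [hc, h, TensorProduct.tmul_zero, mul_zero, zero_mul, add_zero] at e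
      exact e.symm
    · rw [hc, sub_eq_zero.1 h, ← Algebra.TensorProduct.one_def, mul_one, one_mul, add_eq_left] at e
      exact e
  let i : B →ₗ[k] ({g : K ⊗[k] B // IsGroupLikeElem K g} → K) := LinearMap.pi θ
  have hi : Function.Injective i := by
    rw [← LinearMap.ker_eq_bot, eq_bot_iff]
    intro a ha
    exact (Submodule.mem_bot k).2 ((hθ a (htop ▸ Submodule.mem_top)).2 fun g => congrFun ha g)
  apply Module.Flat.lTensor_preserves_injective_linearMap i hi
  rw [map_zero]
  apply GeomRedPull.piRightHom_injective (fun _ => K)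
  rw [map_zero]
  funext g
  refine Eq.trans ?_ (hall g)
  clear hf hall
  induction f using TensorProduct.induction_on with
  | zero => simp
  | tmul r a => simp [Θ, i]
  | add x y hx hy => simp only [map_add, Pi.add_apply, hx, hy]

end family

end Groth.Agent.UnipMult
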