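import Groth.Agent.Comod.Semisimple
import Groth.Agent.Comod.Transfer
import Mathlib.RingTheory.Coalgebra.GroupLike
import Mathlib.RingTheory.HopfAlgebra.GroupLike
import Mathlib.RingTheory.Artinian.Ring
import Mathlib.RingTheory.Ideal.IdempotentFG
import Mathlib.FieldTheory.IsAlgClosed.Basic

/-!
# Cocommutative Hopf algebras without primitive elements are spanned by group-like elements
-/

set_option autoImplicit false
set_option backward.isDefEq.respectTransparency false

universe u
open TensorProduct Coalgebra Groth.Agent.Comod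
open scoped Groth.Agent.Comod
noncomputable section

namespace Groth.Agent.UnipMult

/-- In a reduced finite dimensional algebra over an algebraically closed field the characters span
the dual. -/
theorem mem_span_characters {K E : Type*} [Field K] [IsAlgClosed K] [CommRing E] [Algebra K E] [Module.Finite K E]
    [IsReduced E] (ω : E →ₗ[K] K) : ω ∈ Submodule.span K (Set.range (AlgHom.toLinearMap : (E →ₐ[K] K) → E →ₗ[K] K)) := by
  have hS : Submodule.span K (Set.range (AlgHom.toLinearMap : (E →ₐ[K] K) → E →ₗ[K] K)) = ⊤ := by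
    rw [← Subspace.dualCoannihilator_dualAnnihilator_eq (W := Submodule.span K (Set.range (AlgHom.toLinearMap : (E →ₐ[K] K) → E →ₗ[K] K)))]
    rw [eq_top_iff]
    intro φ _
    rw [Submodule.mem_dualAnnihilator]
    intro x hx
    rw [Submodule.mem_dualCoannihilator] at hx
    suffices x = 0 by rw [this, map_zero]
    haveI : IsArtinianRing E := isArtinian_of_tower K inferInstance
    refine IsNilpotent.eq_zero (mem_nilradical.1 ?_)
    rw [nilradical_eq_sInf, Ideal.mem_sInf]
    intro P hP
    have hP' : P.IsPrime := hP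
    have : P.IsMaximal := inferInstance
    let := Ideal.Quotient.field P
    have : Algebra.IsIntegral K (E ⧸ P) := Algebra.IsIntegral.of_finite K _
    let e : K ≃ₐ[K] (E ⧸ P) := AlgEquiv.ofBijective (Algebra.ofId K _) IsAlgClosed.algebraMap_bijective_of_isIntegral
    have h0 := hx _ (Submodule.subset_span ⟨e.symm.toAlgHom.comp (Ideal.Quotient.mkₐ K P), rfl⟩)
    exact Ideal.Quotient.eq_zero_iff_mem.1 (e.symm.injective (h0.trans (map_zero e.symm).symm))
  rw [hS]; exact Submodule.mem_top

/-- A finite dimensional algebra over an algebraically closed field without derivations at points is reduced. -/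
theorem isReduced_of_no_derivation {K E : Type*} [Field K] [IsAlgClosed K] [CommRing E] [Algebra K E] [Module.Finite K E]
    (h : ∀ (χ : E →ₐ[K] K) (ω : E →ₗ[K] K), (∀ a b, ω (a * b) = χ a * ω b + ω a * χ b) → ω = 0) : IsReduced E := by
  haveI : IsNoetherianRing E := IsNoetherianRing.of_finite K E
  refine ⟨fun n hn => ?_⟩
  by_contra hne
  obtain ⟨m, hm, hAm⟩ := Ideal.exists_le_maximal ((⊥ : Ideal E).colon (Ideal.span {n} : Set E)) (fun htop => hne (by
    have := (Ideal.eq_top_iff_one _).1 htop
    rw [Submodule.mem_colon] at this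
    simpa using this n (Ideal.mem_span_singleton_self n)))
  haveI := hm
  let := Ideal.Quotient.field m
  have : Algebra.IsIntegral K (E ⧸ m) := Algebra.IsIntegral.of_finite K _
  let e : K ≃ₐ[K] (E ⧸ m) := AlgEquiv.ofBijective (Algebra.ofId K _) IsAlgClosed.algebraMap_bijective_of_isIntegral
  let χ : E →ₐ[K] K := e.symm.toAlgHom.comp (Ideal.Quotient.mkₐ K m)
  have hχ : ∀ a, a - algebraMap K E (χ a) ∈ m := fun a => by
    rw [← Ideal.Quotient.eq_zero_iff_mem, map_sub, sub_eq_zero]
    exact (e.apply_symm_apply (Ideal.Quotient.mk m a)).symm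
  have hχ0 : ∀ a ∈ m, χ a = 0 := fun a ha => by simp [χ, Ideal.Quotient.eq_zero_iff_mem.2 ha]
  have hmm : m * m = m := by
    refine le_antisymm Ideal.mul_le_left fun x hx => ?_
    by_contra hxm
    let W : Submodule K E := (m * m).restrictScalars K ⊔ K ∙ (1 : E)
    have hxW : x ∉ W := fun hxW => by
      obtain ⟨y, hy, z, hz, hyz⟩ := Submodule.mem_sup.1 hxW
      obtain ⟨r, rfl⟩ := Submodule.mem_span_singleton.1 hz
      have hy' : y ∈ m := Ideal.mul_le_left hy
      have hr : χ (r • (1 : E)) = 0 := hχ0 _ (by rw [show r • (1 : E) = x - y by rw [← hyz]; abel]; exact sub_mem hx hy')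
      rw [map_smul, map_one, smul_eq_mul, mul_one] at hr
      rw [hr, zero_smul, add_zero] at hyz
      exact hxm (hyz ▸ hy)
    obtain ⟨ω, hωx, hωW⟩ := Submodule.exists_dual_map_eq_bot_of_notMem hxW inferInstance
    have hω : ∀ y ∈ W, ω y = 0 := fun y hy => (Submodule.mem_bot K).1 (hωW ▸ ⟨y, hy, rfl⟩)
    refine hωx ?_
    rw [h χ ω fun a b => ?_, LinearMap.zero_apply]
    have h1 := hω _ (Submodule.mem_sup_left (Ideal.mul_mem_mul (hχ a) (hχ b)))
    have e1 : ∀ r : K, ω (algebraMap K E r) = 0 := fun r => hω _ (Submodule.mem_sup_right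
      (Submodule.mem_span_singleton.2 ⟨r, (Algebra.algebraMap_eq_smul_one r).symm⟩))
    have e2 : ∀ (r : K) (y : E), ω (algebraMap K E r * y) = r * ω y := fun r y => by
      rw [← Algebra.smul_def, map_smul, smul_eq_mul]
    rw [sub_mul, mul_sub, mul_sub, ← map_mul, map_sub, map_sub, map_sub, e1, sub_zero,
      mul_comm a (algebraMap K E (χ b)), e2, e2, sub_sub, sub_eq_zero] at h1
    rw [h1]; ring
  obtain ⟨i, hi, him⟩ := (Ideal.isIdempotentElem_iff_of_fg m (IsNoetherian.noetherian m)).1 hmm
  have hnm : n ∈ m := hm.isPrime.radical_le_iff.2 le_rfl (hn.elim fun k hk => ⟨k, hk ▸ zero_mem _⟩)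
  have hin : (1 - i) * n = 0 := by
    rw [him] at hnm
    obtain ⟨y, rfl⟩ := Ideal.mem_span_singleton'.1 hnm
    rw [show (1 - i) * (y * i) = y * (i - i * i) by ring, hi.eq, sub_self, mul_zero]
  have h1i : (1 - i) ∈ m := hAm (Submodule.mem_colon.2 fun y hy => by
    obtain ⟨z, rfl⟩ := Ideal.mem_span_singleton'.1 hy
    rw [smul_eq_mul, show (1 - i) * (z * n) = z * ((1 - i) * n) by ring, hin, mul_zero]
    exact zero_mem _)
  have him' : i ∈ m := him ▸ Ideal.mem_span_singleton_self i
  exact hm.ne_top ((Ideal.eq_top_iff_one m).2 (by simpa using add_mem h1i him'))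

/-- The image of a map out of a commutative algebra, as a commutative algebra. -/
theorem exists_image {K : Type*} [CommRing K] {R : Type u} [CommRing R] [Algebra K R] {M : Type*} [Ring M] [Algebra K M]
    (d : R →ₐ[K] M) : ∃ (E : Type u) (_ : CommRing E) (_ : Algebra K E) (dE : R →ₐ[K] E) (ι : E →ₐ[K] M),
      Function.Surjective dE ∧ Function.Injective ι ∧ ∀ r, ι (dE r) = d r :=
  ⟨R ⧸ RingHom.ker d, inferInstance, inferInstance, Ideal.Quotient.mkₐ K _,
    Ideal.Quotient.liftₐ (RingHom.ker d) d fun _ hf => hf, Ideal.Quotient.mk_surjective,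
    (injective_iff_map_eq_zero _).2 fun e he => by
      obtain ⟨f, rfl⟩ := Ideal.Quotient.mk_surjective e
      exact Ideal.Quotient.eq_zero_iff_mem.2 he, fun _ => rfl⟩

variable {K C : Type u} [Field K] [IsAlgClosed K] [CommRing C] [HopfAlgebra K C] [IsCocomm K C]

/-- A cocommutative Hopf algebra over an algebraically closed field without nonzero primitive elements is
spanned by its group-like elements. -/
theorem span_groupLike_eq_top
    (hp : ∀ x : C, comul (R := K) x = x ⊗ₜ[K] (1 : C) + (1 : C) ⊗ₜ[K] x → x = 0) :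
    Submodule.span K {g : C | IsGroupLikeElem K g} = ⊤ := by
  classical
  rw [eq_top_iff]
  intro c hct
  clear hct
  obtain ⟨S, hcS, hfin⟩ := exists_finite_subcomod_finset (K := K) (C := C) (V := C) {c}
  let W := ofDSub S
  haveI : Module.Finite K W := hfin
  let d : CDual K C →ₐ[K] Module.End K W := AlgHom.ofLinearMap
    { toFun := fun f => (dact K C C f).restrict (fun x hx => S.smul_mem f hx)
      map_add' := fun f g => LinearMap.ext fun x => Subtype.ext (by simp)
      map_smul' := fun r f => LinearMap.ext fun x => Subtype.ext (by simp) }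
    (LinearMap.ext fun x => Subtype.ext (by simp))
    (fun f g => LinearMap.ext fun x => Subtype.ext (by simp))
  obtain ⟨E, _, _, dE, ι, hdE, hι, hιd⟩ := exists_image (K := K) (R := CDual K C) (M := Module.End K W) d
  haveI : Module.Finite K E := Module.Finite.of_injective ι.toLinearMap hι
  let b := Module.Free.chooseBasis K W
  choose ext hext using fun i => LinearMap.exists_extend (b.coord i)
  have hrep : ∀ ω : E →ₗ[K] K, ∃ x : C, ∀ f : CDual K C, ω (dE f) = f.ofConv x := by
    intro ω
    let ι' : E →ₗ[K] (Module.Free.ChooseBasisIndex K W × Module.Free.ChooseBasisIndex K W → K) :=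
      { toFun := fun e p => b.coord p.1 (ι e (b p.2))
        map_add' := fun e e' => funext fun p => by simp
        map_smul' := fun r e => funext fun p => by simp }
    have hi : Function.Injective ι' := fun e e' he => hι (b.ext fun j => b.ext_elem fun i => congrFun he (i, j))
    obtain ⟨Ω, hΩ⟩ := LinearMap.exists_extend (ω ∘ₗ (LinearEquiv.ofInjective ι' hi).symm.toLinearMap)
    refine ⟨∑ p, Ω (Pi.single p 1) • cL (ext p.1) (comul (R := K) (b p.2 : C)), fun f => ?_⟩
    simp only [map_sum, map_smul, cR_cL, smul_eq_mul]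
    have h := LinearMap.congr_fun hΩ (LinearEquiv.ofInjective ι' hi (dE f))
    simp only [LinearMap.comp_apply, LinearEquiv.coe_coe, LinearEquiv.symm_apply_apply] at h
    rw [← h]
    show Ω (ι' (dE f)) = _
    conv_lhs => rw [pi_eq_sum_univ' (ι' (dE f))]
    simp only [map_sum, map_smul, smul_eq_mul]
    refine Finset.sum_congr rfl fun p _ => ?_
    rw [mul_comm]
    congr 1
    show b.coord p.1 (ι (dE f) (b p.2)) = _
    rw [hιd]
    exact (LinearMap.congr_fun (hext p.1) (d f (b p.2))).symm
  have hsep : ∀ x : C, (∀ f : CDual K C, f.ofConv x = 0) → x = 0 := fun x hx =>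
    (Module.forall_dual_apply_eq_zero_iff K x).1 fun φ => hx (WithConv.toConv φ)
  have hpair : ∀ (x : C) (t : C ⊗[K] C), (∀ f g : CDual K C, (f * g).ofConv x = LinearMap.mul' K K
      (TensorProduct.map f.ofConv g.ofConv t)) → comul (R := K) x = t := by
    intro x t ht
    refine tensor_eq_of_cR fun g => sub_eq_zero.1 (hsep _ fun f => ?_)
    have e : ∀ s : C ⊗[K] C, f.ofConv (cR g s) = LinearMap.mul' K K (TensorProduct.map f.ofConv g s) := by
      intro s
      induction s using TensorProduct.induction_on with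
      | zero => simp
      | tmul y z => simp [mul_comm]
      | add y z hy hz => simp only [map_add, hy, hz]
    rw [map_sub, e, e, sub_eq_zero]
    exact ht f (WithConv.toConv g)
  have hgrp : ∀ χ : E →ₐ[K] K, ∃ g : C, IsGroupLikeElem K g ∧ ∀ f, χ (dE f) = f.ofConv g := by
    intro χ
    obtain ⟨g, hg⟩ := hrep χ.toLinearMap
    refine ⟨g, ⟨?_, hpair g _ fun f f' => ?_⟩, hg⟩
    · have := hg 1
      rw [map_one, AlgHom.toLinearMap_apply, map_one] at this
      simpa [LinearMap.convOne_def] using this.symm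
    · rw [← hg, map_mul, AlgHom.toLinearMap_apply, map_mul, TensorProduct.map_tmul, LinearMap.mul'_apply, ← hg, ← hg]
      rfl
  haveI : _root_.IsReduced E := by
    refine isReduced_of_no_derivation (K := K) fun χ ω hω => ?_
    obtain ⟨g, hg, hgr⟩ := hgrp χ
    obtain ⟨x, hx⟩ := hrep ω
    have hΔ : comul (R := K) x = g ⊗ₜ[K] x + x ⊗ₜ[K] g := hpair x _ fun f f' => by
      rw [← hx, map_mul, hω, map_add, map_add, TensorProduct.map_tmul, TensorProduct.map_tmul,
        LinearMap.mul'_apply, LinearMap.mul'_apply, hgr, hgr, hx, hx]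
    obtain ⟨u, hu⟩ := hg.isUnit
    have hu' : IsGroupLikeElem K (↑u⁻¹ : C) :=
      IsGroupLikeElem.of_mul_eq_one (hu ▸ u.mul_inv) (hu ▸ u.inv_mul) hg
    have hy : (↑u⁻¹ : C) * x = 0 := hp _ (by
      rw [Bialgebra.comul_mul, hu'.comul_eq_tmul_self, hΔ, mul_add, Algebra.TensorProduct.tmul_mul_tmul,
        Algebra.TensorProduct.tmul_mul_tmul, ← hu, u.inv_mul, add_comm])
    have hx0 : x = 0 := (u⁻¹).mul_right_eq_zero.1 hy
    refine LinearMap.ext fun e => ?_
    obtain ⟨f, rfl⟩ := hdE e
    refine (hx f).trans ?_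
    rw [hx0, map_zero]
    rfl
  let ω0 : E →ₗ[K] K := (counit (R := K) (A := C)) ∘ₗ W.subtype ∘ₗ
    (LinearMap.applyₗ (R := K) (⟨c, hcS c (Finset.mem_singleton_self c)⟩ : W)) ∘ₗ ι.toLinearMap
  have key : ∀ ω ∈ Submodule.span K (Set.range (AlgHom.toLinearMap : (E →ₐ[K] K) → E →ₗ[K] K)),
      ∃ x ∈ Submodule.span K {g : C | IsGroupLikeElem K g}, ∀ f, ω (dE f) = f.ofConv x := by
    intro ω hω
    induction hω using Submodule.span_induction with
    | mem ω h =>
      obtain ⟨χ, rfl⟩ := h
      obtain ⟨g, hg, hgr⟩ := hgrp χ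
      exact ⟨g, Submodule.subset_span hg, hgr⟩
    | zero => exact ⟨0, zero_mem _, fun f => by simp⟩
    | add a b _ _ ha hb =>
      obtain ⟨x, hx, hx'⟩ := ha
      obtain ⟨y, hy, hy'⟩ := hb
      exact ⟨x + y, add_mem hx hy, fun f => by rw [LinearMap.add_apply, hx', hy', map_add]⟩
    | smul r a _ ha =>
      obtain ⟨x, hx, hx'⟩ := ha
      exact ⟨r • x, Submodule.smul_mem _ r hx, fun f => by rw [LinearMap.smul_apply, hx', map_smul]⟩
  obtain ⟨x, hx, hx'⟩ := key ω0 (mem_span_characters ω0)
  suffices c = x from this ▸ hx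
  refine sub_eq_zero.1 (hsep _ fun f => ?_)
  rw [map_sub, ← hx', sub_eq_zero]
  show f.ofConv c = counit (R := K) ((ι (dE f) ⟨c, hcS c (Finset.mem_singleton_self c)⟩ : W) : C)
  rw [hιd]
  show f.ofConv c = counit (R := K) (cR f.ofConv (comul (R := K) c))
  have e : ∀ s : C ⊗[K] C, counit (R := K) (cR f.ofConv s) =
      f.ofConv ((TensorProduct.lid K C) ((counit (R := K) (A := C)).rTensor C s)) := by
    intro s
    induction s using TensorProduct.induction_on with
    | zero => simp
    | tmul y z => simp [mul_comm]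
    | add y z hy hz => simp only [map_add, hy, hz]
  rw [e, Coalgebra.rTensor_counit_comul, TensorProduct.lid_tmul, one_smul]

end Groth.Agent.UnipMult
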